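/- Recognition of closed subschemes of affine schemes among locally ringed spaces. -/
import Mathlib

set_option autoImplicit false
universe u
open CategoryTheory Opposite TopologicalSpace AlgebraicGeometry

namespace Groth.Agent.LRSClosed

variable {R : CommRingCat.{u}} {Z : LocallyRingedSpace.{u}}

/-- the morphism to an affine scheme attached to a map into the global sections -/
noncomputable def adj (φ : R ⟶ LocallyRingedSpace.Γ.obj (op Z)) : Z ⟶ Spec.locallyRingedSpaceObj R :=
  Z.toΓSpec ≫ Spec.locallyRingedSpaceMap φ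

theorem adj_comp {S : CommRingCat.{u}} (q : R ⟶ S) (φ : S ⟶ LocallyRingedSpace.Γ.obj (op Z)) :
    adj φ ≫ Spec.locallyRingedSpaceMap q = adj (q ≫ φ) := by
  rw [adj, adj, Category.assoc, ← Spec.locallyRingedSpaceMap_comp]

theorem adj_preimage (φ : R ⟶ LocallyRingedSpace.Γ.obj (op Z)) (r : R) :
    (Opens.map (adj φ).base).obj (PrimeSpectrum.basicOpen r) = Z.toRingedSpace.basicOpen (φ r) := by
  rw [← LocallyRingedSpace.toΓSpecMapBasicOpen_eq]
  rfl

theorem germ_comp_stalkMap (φ : R ⟶ LocallyRingedSpace.Γ.obj (op Z)) (z : Z) (r : R) :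
    ((adj φ).stalkMap z).hom
        (algebraMap R ((Spec.structureSheaf R).presheaf.stalk ((adj φ).base z)) r) =
      (Z.presheaf.Γgerm z).hom (φ.hom r) := by
  have h1 : (algebraMap R ((Spec.structureSheaf R).presheaf.stalk ((adj φ).base z))) r =
      ((Spec.locallyRingedSpaceObj R).presheaf.germ ⊤ ((adj φ).base z) trivial).hom
        (algebraMap R ((Spec.structureSheaf R).presheaf.obj (op ⊤)) r) := rfl
  rw [h1, LocallyRingedSpace.stalkMap_germ_apply]
  have h2 := ConcreteCategory.congr_hom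
    (ΓSpec.toOpen_comp_locallyRingedSpaceAdjunction_homEquiv_app (X := Z) (R := R) φ.op (op ⊤)) r
  change (Z.presheaf.germ _ z _).hom (((adj φ).c.app (op ⊤)).hom _) = _
  erw [h2]
  exact Z.presheaf.germ_res_apply _ _ _ (φ.hom r)

/-- `φ` detects vanishing on basic opens up to powers -/
def Loc (φ : R ⟶ LocallyRingedSpace.Γ.obj (op Z)) : Prop :=
  ∀ f a : R, (Z.presheaf.map (homOfLE (le_top : Z.toRingedSpace.basicOpen (φ f) ≤ ⊤)).op).hom (φ a) = 0 →
    ∃ N : ℕ, φ (f ^ N * a) = 0

theorem isIso_adj (φ : R ⟶ LocallyRingedSpace.Γ.obj (op Z)) (hinj : Function.Injective φ.hom) (hL : Loc φ)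
    (hemb : Topology.IsClosedEmbedding (adj φ).base)
    (hsur : ∀ z, Function.Surjective ((adj φ).stalkMap z).hom) : IsIso (adj φ) := by
  have hL' : ∀ f a : R, (Z.presheaf.map (homOfLE (le_top : Z.toRingedSpace.basicOpen (φ f) ≤ ⊤)).op).hom (φ a) = 0 →
      ∃ N : ℕ, f ^ N * a = 0 := fun f a h => by
    obtain ⟨N, hN⟩ := hL f a h
    exact ⟨N, hinj (hN.trans (map_zero _).symm)⟩
  have hbij : Function.Surjective (adj φ).base := by
    intro p
    by_contra hp
    obtain ⟨_, ⟨g, rfl⟩, hgp, hg⟩ := PrimeSpectrum.isTopologicalBasis_basic_opens.exists_subset_of_mem_open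
      (show p ∈ (Set.range (adj φ).base)ᶜ from hp) hemb.isClosed_range.isOpen_compl
    have hempty : Z.toRingedSpace.basicOpen (φ g) = ⊥ := by
      rw [← adj_preimage]
      ext z
      exact ⟨fun h => (hg h ⟨z, rfl⟩).elim, fun h => h.elim⟩
    have key : ∀ (W : Opens Z), W = ⊥ → ∀ t : Z.presheaf.obj (op W), t = 0 := by
      rintro W rfl t
      exact (CommRingCat.subsingleton_of_isTerminal (Z.sheaf.isTerminalOfEmpty)).elim _ _
    obtain ⟨N, hN⟩ := hL' g 1 (key _ hempty _)
    exact PrimeSpectrum.mem_basicOpen g p |>.1 hgp (by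
      rw [mul_one] at hN
      exact p.2.mem_of_pow_mem N (hN ▸ p.1.zero_mem))
  have hst : ∀ z, IsIso ((adj φ).stalkMap z) := fun z => by
    rw [ConcreteCategory.isIso_iff_bijective]
    refine ⟨?_, hsur z⟩
    change Function.Injective ((adj φ).stalkMap z).hom
    rw [injective_iff_map_eq_zero]
    let p : PrimeSpectrum R := (adj φ).base z
    let m : ((Spec.structureSheaf R).presheaf.stalk p : Type u) →+* (Z.presheaf.stalk z : Type u) :=
      ((adj φ).stalkMap z).hom
    suffices H : ∀ t, m t = 0 → t = 0 from H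
    intro t ht
    obtain ⟨⟨r, s⟩, he⟩ := IsLocalization.surj (R := R) (S := (Spec.structureSheaf R).presheaf.stalk p) p.asIdeal.primeCompl t
    dsimp only at he
    have h0 : (Z.presheaf.Γgerm z).hom (φ.hom r) = 0 := by
      have hm : m (algebraMap R ((Spec.structureSheaf R).presheaf.stalk p) r) =
          (Z.presheaf.Γgerm z).hom (φ.hom r) := germ_comp_stalkMap φ z r
      rw [← hm, ← he, map_mul, ht, zero_mul]
    obtain ⟨W, hzW, i₁, i₂, hW⟩ := Z.presheaf.germ_eq z (U := ⊤) (V := ⊤) trivial trivial (φ.hom r) 0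
      (by rw [map_zero]; exact h0)
    obtain ⟨V, hV, hVW⟩ := hemb.isInducing.isOpen_iff.1 W.2
    obtain ⟨_, ⟨g, rfl⟩, hgp, hg⟩ := PrimeSpectrum.isTopologicalBasis_basic_opens.exists_subset_of_mem_open
      (show p ∈ V by
        have : z ∈ (adj φ).base ⁻¹' V := by rw [hVW]; exact hzW
        exact this) hV
    have hle : Z.toRingedSpace.basicOpen (φ g) ≤ W := by
      rw [← adj_preimage]
      intro x hx
      refine (?_ : x ∈ W.carrier)
      rw [← hVW]
      exact hg hx
    obtain ⟨N, hN⟩ := hL' g r (by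
      rw [map_zero] at hW
      have h3 := congrArg (Z.presheaf.map (homOfLE hle).op).hom hW
      rw [map_zero, ← CommRingCat.comp_apply, ← Functor.map_comp] at h3
      exact h3)
    have hu : IsUnit (algebraMap R ((Spec.structureSheaf R).presheaf.stalk p) (g ^ N)) :=
      IsLocalization.map_units _ (⟨g ^ N, fun h => hgp (p.2.mem_of_pow_mem N h)⟩ : p.asIdeal.primeCompl)
    have h4 : algebraMap R ((Spec.structureSheaf R).presheaf.stalk p) r = 0 := by
      rw [← hu.mul_right_eq_zero, ← map_mul, hN, map_zero]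
    rw [h4] at he
    exact (IsUnit.mul_left_eq_zero (IsLocalization.map_units ((Spec.structureSheaf R).presheaf.stalk p) s)).1 he
  let e : Z.toSheafedSpace ⟶ (Spec.locallyRingedSpaceObj R).toSheafedSpace :=
    LocallyRingedSpace.forgetToSheafedSpace.map (adj φ)
  haveI : ∀ x, IsIso (e.hom.stalkMap x) := hst
  haveI : SheafedSpace.IsOpenImmersion e := SheafedSpace.IsOpenImmersion.of_stalk_iso e
    ⟨hemb.isEmbedding, by
      rw [show Set.range e.hom.base = Set.univ from hbij.range_eq]; exact isOpen_univ⟩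
  haveI : Epi e.hom.base := (TopCat.epi_iff_surjective _).2 hbij
  haveI : IsIso (LocallyRingedSpace.forgetToSheafedSpace.map (adj φ)) := SheafedSpace.IsOpenImmersion.to_iso e
  exact isIso_of_reflects_iso _ LocallyRingedSpace.forgetToSheafedSpace

/-- The quotient form. -/
theorem exists_iso_quotient {R : Type u} [CommRing R] {Z : LocallyRingedSpace.{u}}
    (φ : CommRingCat.of R ⟶ LocallyRingedSpace.Γ.obj (op Z)) (I : Ideal R) (hI : I = RingHom.ker φ.hom)
    (hL : Loc φ) (hemb : Topology.IsClosedEmbedding (adj φ).base)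
    (hsur : ∀ z, Function.Surjective ((adj φ).stalkMap z).hom) :
    ∃ e : Z ≅ Spec.locallyRingedSpaceObj (CommRingCat.of (R ⧸ I)),
      e.hom ≫ Spec.locallyRingedSpaceMap (CommRingCat.ofHom (Ideal.Quotient.mk I)) = adj φ := by
  let ψ : CommRingCat.of (R ⧸ I) ⟶ LocallyRingedSpace.Γ.obj (op Z) :=
    CommRingCat.ofHom (Ideal.Quotient.lift I φ.hom (fun a ha => by rw [hI] at ha; exact ha))
  let j := Spec.locallyRingedSpaceMap (CommRingCat.ofHom (Ideal.Quotient.mk I))
  have hj : adj ψ ≫ j = adj φ := (adj_comp _ ψ).trans rfl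
  have hje : Topology.IsEmbedding j.base :=
    (PrimeSpectrum.isClosedEmbedding_comap_of_surjective (R ⧸ I) (Ideal.Quotient.mk I)
      Ideal.Quotient.mk_surjective).isEmbedding
  haveI : IsIso (adj ψ) := by
    refine isIso_adj ψ ?_ ?_ ?_ ?_
    · exact RingHom.lift_injective_of_ker_le_ideal I _ hI.ge
    · intro f a
      obtain ⟨f, rfl⟩ := Ideal.Quotient.mk_surjective f
      obtain ⟨a, rfl⟩ := Ideal.Quotient.mk_surjective a
      intro h
      obtain ⟨N, hN⟩ := hL f a h
      exact ⟨N, by rw [← map_pow, ← map_mul]; exact hN⟩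
    · have h : ⇑(adj φ).base = j.base ∘ (adj ψ).base := by rw [← hj]; rfl
      refine ⟨Topology.IsEmbedding.of_comp (adj ψ).base.hom.continuous j.base.hom.continuous
        (h ▸ hemb.isEmbedding), ?_⟩
      have : Set.range (adj ψ).base = j.base ⁻¹' Set.range (adj φ).base := by
        rw [h, Set.range_comp, hje.injective.preimage_image]
      rw [this]
      exact hemb.isClosed_range.preimage j.base.hom.continuous
    · intro z t
      have h := hsur z
      rw [← hj] at h
      obtain ⟨w, hw⟩ := h t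
      refine ⟨(j.stalkMap ((adj ψ).base z)).hom w, ?_⟩
      rw [← hw, LocallyRingedSpace.stalkMap_comp]
      rfl
  exact ⟨asIso (adj ψ), hj⟩

end Groth.Agent.LRSClosed
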