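/- Kernels of closed immersions of locally ringed spaces into schemes. -/
import Mathlib
import Groth.Agent.LRSClosed.Core
import Groth.Prelude.Def_W4stkremschemesLRS

set_option autoImplicit false
universe u
open CategoryTheory Opposite TopologicalSpace AlgebraicGeometry

namespace Groth.Agent.LRSClosed

variable {X : Scheme.{u}} {Z : LocallyRingedSpace.{u}} {i : Z ⟶ X.toLocallyRingedSpace}

theorem surjective_stalkMap (hemb : Topology.IsClosedEmbedding i.base)
    (hs : TopCat.Presheaf.IsLocallySurjective i.c) (z : Z) : Function.Surjective (i.stalkMap z).hom := by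
  intro t
  obtain ⟨W, hW, t, rfl⟩ := Z.presheaf.germ_exist t
  obtain ⟨V, hVo, hVW⟩ := hemb.isInducing.isOpen_iff.1 W.2
  let V' : X.Opens := ⟨V, hVo⟩
  have hle : (Opens.map i.base).obj V' ≤ W := fun x hx => hVW.le hx
  have hzV : i.base z ∈ V' := hVW.ge hW
  obtain ⟨V₁, hle₁, ⟨s, hs⟩, hz₁⟩ := (TopCat.Presheaf.isLocallySurjective_iff i.c).1 hs V'
    ((Z.presheaf.map (homOfLE hle).op).hom t) (i.base z) hzV
  refine ⟨(X.presheaf.germ V₁ (i.base z) hz₁).hom s, ?_⟩
  rw [LocallyRingedSpace.stalkMap_germ_apply]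
  erw [hs]
  change (Z.presheaf.germ _ z _).hom ((Z.presheaf.map _).hom ((Z.presheaf.map (homOfLE hle).op).hom t)) = _
  rw [← CommRingCat.comp_apply (Z.presheaf.map (homOfLE hle).op), ← Functor.map_comp]
  exact Z.presheaf.germ_res_apply _ _ _ t

/-- vanishing on sections transfers to the stalk of the pushforward -/
theorem stalkFunctor_map_eq_zero {U : X.Opens} (a : Γ(X, U)) (h : (i.c.app (op U)).hom a = 0)
    {x : X} (hx : x ∈ U) :
    ((TopCat.Presheaf.stalkFunctor CommRingCat x).map i.c).hom ((X.presheaf.germ U x hx).hom a) = 0 := by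
  refine (TopCat.Presheaf.stalkFunctor_map_germ_apply (C := CommRingCat) U x hx i.c a).trans ?_
  erw [h]
  exact map_zero _

theorem c_res {U V : X.Opens} (h : V ≤ U) (a : Γ(X, U)) :
    (i.c.app (op V)).hom ((X.presheaf.map (homOfLE h).op).hom a) =
      (Z.presheaf.map (homOfLE (show (Opens.map i.base).obj V ≤ (Opens.map i.base).obj U from
        fun z hz => h hz)).op).hom ((i.c.app (op U)).hom a) :=
  ConcreteCategory.congr_hom (i.c.naturality (homOfLE h).op) a

/-- on an affine open small enough to carry generators of the kernel -/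
theorem exists_pow_mul_small {V : X.Opens} (hV : IsAffineOpen V) {ι : Type u} (s : ι → Γ(X, V))
    (hs : ∀ j, (i.c.app (op V)).hom (s j) = 0)
    (hgen : ∀ (x : X) (hx : x ∈ V), RingHom.ker ((TopCat.Presheaf.stalkFunctor CommRingCat x).map i.c).hom ≤
      Ideal.span (Set.range fun j => (X.presheaf.germ V x hx).hom (s j)))
    (f a : Γ(X, V))
    (ha : (i.c.app (op (X.basicOpen f))).hom ((X.presheaf.map (homOfLE (X.basicOpen_le f)).op).hom a) = 0) :
    ∃ N : ℕ, (i.c.app (op V)).hom (f ^ N * a) = 0 := by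
  let J : Ideal Γ(X, V) := Ideal.span (Set.range s)
  have hJ : ∀ r ∈ J, (i.c.app (op V)).hom r = 0 := fun r hr => by
    have : J ≤ RingHom.ker (i.c.app (op V)).hom := Ideal.span_le.2 (by rintro _ ⟨j, rfl⟩; exact hs j)
    exact this hr
  suffices hf : f ∈ (J.colon {a}).radical by
    obtain ⟨N, hN⟩ := hf
    exact ⟨N, hJ _ (Submodule.mem_colon_singleton.1 hN)⟩
  rw [Ideal.radical_eq_sInf, Submodule.mem_sInf]
  rintro q ⟨hq, hqp⟩
  by_contra hfq
  let y : PrimeSpectrum Γ(X, V) := ⟨q, hqp⟩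
  have hyV : hV.fromSpec y ∈ V := hV.range_fromSpec.le ⟨y, rfl⟩
  have hyf : hV.fromSpec y ∈ X.basicOpen f := by
    have : y ∈ PrimeSpectrum.basicOpen f := hfq
    rw [← hV.fromSpec_preimage_basicOpen f] at this
    exact this
  have h1 := stalkFunctor_map_eq_zero (i := i) _ ha hyf
  rw [TopCat.Presheaf.germ_res_apply] at h1
  have h2 := hgen _ hyV h1
  letI := (X.presheaf.germ V (hV.fromSpec y) hyV).hom.toAlgebra
  haveI : IsLocalization.AtPrime (X.presheaf.stalk (hV.fromSpec y)) y.asIdeal := hV.isLocalization_stalk' y hyV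
  have h3 : algebraMap Γ(X, V) (X.presheaf.stalk (hV.fromSpec y)) a ∈
      J.map (algebraMap Γ(X, V) (X.presheaf.stalk (hV.fromSpec y))) := by
    rw [Ideal.map_span, ← Set.range_comp]
    exact h2
  obtain ⟨m, hm, hm'⟩ := (IsLocalization.algebraMap_mem_map_algebraMap_iff y.asIdeal.primeCompl
    (X.presheaf.stalk (hV.fromSpec y)) J a).1 h3
  exact hm (hq (Submodule.mem_colon_singleton.2 hm'))

theorem exists_pow_mul (hker : LRSImm.KerLocallyGenerated i) {U : X.Opens} (hU : IsAffineOpen U)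
    (f a : Γ(X, U))
    (ha : (i.c.app (op (X.basicOpen f))).hom ((X.presheaf.map (homOfLE (X.basicOpen_le f)).op).hom a) = 0) :
    ∃ N : ℕ, (i.c.app (op U)).hom (f ^ N * a) = 0 := by
  classical
  have hloc : ∀ x : U, ∃ g : Γ(X, U), (x : X) ∈ X.basicOpen g ∧ ∃ N : ℕ, ∀ M, N ≤ M →
      (i.c.app (op (X.basicOpen g))).hom ((X.presheaf.map (homOfLE (X.basicOpen_le g)).op).hom (f ^ M * a)) = 0 := by
    intro x
    obtain ⟨W, hxW, ι, s, hs, hgen⟩ := hker x.1
    obtain ⟨g, hgW, hxg⟩ := hU.exists_basicOpen_le (V := (W : X.Opens)) ⟨x.1, hxW⟩ x.2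
    refine ⟨g, hxg, ?_⟩
    let r := (X.presheaf.map (homOfLE (X.basicOpen_le g)).op).hom
    obtain ⟨N, hN⟩ := exists_pow_mul_small (i := i) (hU.basicOpen g)
      (fun j => (X.presheaf.map (homOfLE hgW).op).hom (s j))
      (fun j => by rw [c_res, show (i.c.app (op W)).hom (s j) = 0 from hs j, map_zero])
      (fun y hy => by
        rw [← hgen y (hgW hy)]
        refine le_of_eq (congrArg Ideal.span (congrArg Set.range (funext fun j => ?_)))
        exact (X.presheaf.germ_res_apply (homOfLE hgW) y hy (s j)).symm)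
      (r f) (r a) (by
        have hle : X.basicOpen (r f) ≤ X.basicOpen f := by
          rw [X.basicOpen_res]; exact inf_le_right
        have h0 := congrArg (Z.presheaf.map (homOfLE (show (Opens.map i.base).obj (X.basicOpen (r f)) ≤
          (Opens.map i.base).obj (X.basicOpen f) from fun z hz => hle hz)).op).hom ha
        rw [map_zero, ← c_res hle, ← CommRingCat.comp_apply (X.presheaf.map _) (X.presheaf.map _),
          ← Functor.map_comp] at h0
        rw [show (X.presheaf.map (homOfLE (X.basicOpen_le (r f))).op).hom (r a) =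
          (X.presheaf.map ((homOfLE (X.basicOpen_le f)).op ≫ (homOfLE hle).op)).hom a from by
            rw [← CommRingCat.comp_apply, ← Functor.map_comp]; rfl]
        exact h0)
    refine ⟨N, fun M hM => ?_⟩
    obtain ⟨k, rfl⟩ := Nat.exists_eq_add_of_le hM
    change (i.c.app (op (X.basicOpen g))).hom (r (f ^ (N + k) * a)) = 0
    rw [map_mul r, map_pow, pow_add, mul_comm (r f ^ N), mul_assoc, map_mul, hN, mul_zero]
  choose g hxg N hN using hloc
  obtain ⟨T, hT⟩ := hU.isCompact.elim_finite_subcover (fun x : U => (X.basicOpen (g x) : Set X))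
    (fun x => (X.basicOpen (g x)).2) (fun x hx => Set.mem_iUnion.2 ⟨⟨x, hx⟩, hxg _⟩)
  refine ⟨T.sup N, ?_⟩
  refine TopCat.Sheaf.eq_of_locally_eq' Z.sheaf (fun x : T => (Opens.map i.base).obj (X.basicOpen (g x.1)))
    ((Opens.map i.base).obj U) (fun x => homOfLE fun z hz => X.basicOpen_le _ hz) ?_ _ _ fun x => ?_
  · intro z hz
    obtain ⟨x, hx, hzx⟩ := Set.mem_iUnion₂.1 (hT hz)
    exact Opens.mem_iSup.2 ⟨⟨x, hx⟩, hzx⟩
  · have h := hN x.1 (T.sup N) (Finset.le_sup x.2)
    rw [c_res] at h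
    exact h.trans (map_zero _).symm

end Groth.Agent.LRSClosed
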