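/- Closed immersions of locally ringed spaces into affine schemes / open affines. -/
import Mathlib
import Groth.Agent.LRSClosed.Sections

set_option autoImplicit false
universe u
open CategoryTheory Opposite TopologicalSpace AlgebraicGeometry

namespace Groth.Agent.LRSClosed

variable {X : Scheme.{u}} {Z Z' : LocallyRingedSpace.{u}}

theorem adj_eq {R : CommRingCat.{u}} (i : Z ⟶ (Spec R).toLocallyRingedSpace) :
    adj ((Scheme.ΓSpecIso R).inv ≫ i.c.app (op ⊤)) = i := by
  refine Eq.trans ?_ ((ΓSpec.locallyRingedSpaceAdjunction.homEquiv Z (op R)).apply_symm_apply i)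
  rw [ΓSpec.locallyRingedSpaceAdjunction_homEquiv_apply, Adjunction.homEquiv_counit]
  rfl

theorem adj_base_fromSpec (i : Z ⟶ X.toLocallyRingedSpace) {U : X.Opens} (hU : IsAffineOpen U)
    (htop : ∀ z, i.base z ∈ U) (z : Z) :
    hU.fromSpec ((adj (i.c.app (op U) ≫ Z.presheaf.map (homOfLE (show (⊤ : Opens Z) ≤ (Opens.map i.base).obj U
      from fun z _ => htop z)).op)).base z) = i.base z := by
  set φ := i.c.app (op U) ≫ Z.presheaf.map (homOfLE (show (⊤ : Opens Z) ≤ (Opens.map i.base).obj U
      from fun z _ => htop z)).op with hφ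
  suffices h : (adj φ).base z = hU.primeIdealOf ⟨i.base z, htop z⟩ from
    (congrArg hU.fromSpec h).trans (hU.fromSpec_primeIdealOf ⟨i.base z, htop z⟩)
  refine PrimeSpectrum.ext (Ideal.ext fun a => ?_)
  have h1 : a ∉ (hU.primeIdealOf ⟨i.base z, htop z⟩).asIdeal ↔ i.base z ∈ X.basicOpen a := by
    have h : hU.fromSpec (hU.primeIdealOf ⟨i.base z, htop z⟩) ∈ X.basicOpen a ↔
        hU.primeIdealOf ⟨i.base z, htop z⟩ ∈ PrimeSpectrum.basicOpen a := by
      rw [← hU.fromSpec_preimage_basicOpen a]; rfl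
    rw [hU.fromSpec_primeIdealOf] at h
    exact h.symm
  have h2 : a ∉ ((adj φ).base z).asIdeal ↔ i.base z ∈ X.basicOpen a := by
    change z ∈ (Opens.map (adj φ).base).obj (PrimeSpectrum.basicOpen a) ↔ z ∈ (Opens.map i.base).obj (X.basicOpen a)
    rw [adj_preimage]
    refine (Z.toRingedSpace.mem_top_basicOpen (φ a) z).trans ?_
    refine Iff.trans ?_ (iff_of_eq (congrArg (z ∈ ·) (LocallyRingedSpace.preimage_basicOpen i (U := U) a))).symm
    refine Iff.trans ?_ (Z.toRingedSpace.mem_basicOpen ((i.c.app (op U)).hom a) z (htop z)).symm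
    refine iff_of_eq (congrArg IsUnit ?_)
    exact Z.presheaf.germ_res_apply _ _ _ _
  exact not_iff_not.1 (h2.trans h1.symm)

theorem loc_of_killed {R : CommRingCat.{u}} (φ : R ⟶ LocallyRingedSpace.Γ.obj (op Z'))
    (H : ∀ f a : R, (Z'.presheaf.map (homOfLE (le_top : Z'.toRingedSpace.basicOpen (φ f) ≤ ⊤)).op).hom (φ a) = 0 →
      ∃ N : ℕ, φ (f ^ N * a) = 0) : Loc φ := H

theorem loc_spec {R : CommRingCat.{u}} (i : Z ⟶ (Spec R).toLocallyRingedSpace)
    (hker : LRSImm.KerLocallyGenerated i) : Loc ((Scheme.ΓSpecIso R).inv ≫ i.c.app (op ⊤)) := by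
  intro f a h
  let f' := (Scheme.ΓSpecIso R).inv.hom f
  let a' := (Scheme.ΓSpecIso R).inv.hom a
  obtain ⟨N, hN⟩ := exists_pow_mul (i := i) hker (isAffineOpen_top (Spec R)) f' a' (by
    rw [c_res]
    have key : ∀ (W W' : Opens Z) (e : W = W') (h₁ : W ≤ ⊤) (h₂ : W' ≤ ⊤) (t : Z.presheaf.obj (op ⊤)),
        (Z.presheaf.map (homOfLE h₁).op).hom t = 0 → (Z.presheaf.map (homOfLE h₂).op).hom t = 0 := by
      rintro W _ rfl h₁ h₂ t ht; exact ht
    exact key _ _ (LocallyRingedSpace.preimage_basicOpen i (U := ⊤) f').symm le_top le_top _ h)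
  refine ⟨N, ?_⟩
  show (i.c.app (op ⊤)).hom ((Scheme.ΓSpecIso R).inv.hom (f ^ N * a)) = 0
  rw [map_mul (Scheme.ΓSpecIso R).inv.hom, map_pow (Scheme.ΓSpecIso R).inv.hom]
  exact hN

/-- the local affine piece -/
theorem exists_iso_of_restrict (i : Z ⟶ X.toLocallyRingedSpace) (hi : LRSImm.IsClosedImmersion i)
    {U : X.Opens} (hU : IsAffineOpen U) :
    ∃ R : CommRingCat.{u}, Nonempty (Z.restrict ((Opens.map i.base).obj U).isOpenEmbedding ≅
      Spec.locallyRingedSpaceObj R) := by
  let W := (Opens.map i.base).obj U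
  let j := Z.ofRestrict W.isOpenEmbedding
  let i' := j ≫ i
  have htop : ∀ z, i'.base z ∈ U := fun z => z.2
  let φ : Γ(X, U) ⟶ LocallyRingedSpace.Γ.obj (op (Z.restrict W.isOpenEmbedding)) :=
    i'.c.app (op U) ≫ (Z.restrict W.isOpenEmbedding).presheaf.map
      (homOfLE (show (⊤ : Opens (Z.restrict W.isOpenEmbedding)) ≤ (Opens.map i'.base).obj U
        from fun z _ => htop z)).op
  have hbase : ∀ z, hU.fromSpec ((adj φ).base z) = i'.base z := adj_base_fromSpec i' hU htop
  have hfs : Topology.IsEmbedding hU.fromSpec.base := hU.fromSpec.isOpenEmbedding.isEmbedding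
  have hi' : Topology.IsEmbedding i'.base := hi.1.isEmbedding.comp W.isOpenEmbedding.isEmbedding
  have hcomp : ⇑i'.base = hU.fromSpec.base ∘ (adj φ).base := funext fun z => (hbase z).symm
  have hemb : Topology.IsClosedEmbedding (adj φ).base := by
    refine ⟨Topology.IsEmbedding.of_comp (adj φ).base.hom.continuous hU.fromSpec.base.hom.continuous
      (hcomp ▸ hi'), ?_⟩
    have hr : Set.range (adj φ).base = hU.fromSpec.base ⁻¹' Set.range i.base := by
      ext p
      constructor
      · rintro ⟨z, rfl⟩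
        exact ⟨j.base z, (hbase z).symm⟩
      · rintro ⟨z, hz⟩
        have hzW : z ∈ W := by
          show i.base z ∈ U
          rw [hz]
          exact hU.range_fromSpec.le ⟨p, rfl⟩
        exact ⟨⟨z, hzW⟩, hfs.injective ((hbase ⟨z, hzW⟩).trans hz)⟩
    rw [hr]
    exact hi.1.isClosed_range.preimage hU.fromSpec.base.hom.continuous
  have hsur : ∀ z, Function.Surjective ((adj φ).stalkMap z).hom := by
    intro z t
    have hs : Function.Surjective (i'.stalkMap z).hom := by
      rw [LocallyRingedSpace.stalkMap_comp]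
      exact ((ConcreteCategory.bijective_of_isIso
        ((Z.toPresheafedSpace.ofRestrict W.isOpenEmbedding).stalkMap z)).surjective.comp
        (surjective_stalkMap hi.1 hi.2.1 (j.base z)) :)
    obtain ⟨u, rfl⟩ := hs t
    letI := (X.presheaf.germ U (i'.base z) (htop z)).hom.toAlgebra
    haveI : IsLocalization.AtPrime (X.presheaf.stalk (i'.base z)) (hU.primeIdealOf ⟨i'.base z, htop z⟩).asIdeal :=
      hU.isLocalization_stalk ⟨i'.base z, htop z⟩
    obtain ⟨⟨a, s⟩, hu⟩ := IsLocalization.surj (hU.primeIdealOf ⟨i'.base z, htop z⟩).asIdeal.primeCompl u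
    dsimp only at hu
    let m : ((Spec.structureSheaf Γ(X, U)).presheaf.stalk ((adj φ).base z) : Type u) →+*
        ((Z.restrict W.isOpenEmbedding).presheaf.stalk z : Type u) := ((adj φ).stalkMap z).hom
    let m' : (X.presheaf.stalk (i'.base z) : Type u) →+*
        ((Z.restrict W.isOpenEmbedding).presheaf.stalk z : Type u) := (i'.stalkMap z).hom
    have hm : ∀ r : Γ(X, U), m (algebraMap Γ(X, U) ((Spec.structureSheaf Γ(X, U)).presheaf.stalk ((adj φ).base z)) r) =
        m' (algebraMap Γ(X, U) (X.presheaf.stalk (i'.base z)) r) := fun r => by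
      refine (germ_comp_stalkMap φ z r).trans ?_
      refine Eq.trans ?_ (LocallyRingedSpace.stalkMap_germ_apply i' U z (htop z) r).symm
      exact (Z.restrict W.isOpenEmbedding).presheaf.germ_res_apply _ _ _ _
    have hp : (adj φ).base z = hU.primeIdealOf ⟨i'.base z, htop z⟩ :=
      hfs.injective ((hbase z).trans (hU.fromSpec_primeIdealOf ⟨i'.base z, htop z⟩).symm)
    have hs' : IsUnit (algebraMap Γ(X, U) ((Spec.structureSheaf Γ(X, U)).presheaf.stalk ((adj φ).base z)) s) :=
      IsLocalization.map_units _ (⟨s.1, fun h => s.2 ((congrArg PrimeSpectrum.asIdeal hp).le h)⟩ : ((adj φ).base z).asIdeal.primeCompl)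
    suffices H : ∃ x, m x = m' u from H
    refine ⟨algebraMap Γ(X, U) ((Spec.structureSheaf Γ(X, U)).presheaf.stalk ((adj φ).base z)) a * ↑hs'.unit⁻¹, ?_⟩
    rw [← (hs'.map m).mul_left_inj, ← map_mul, mul_assoc, IsUnit.val_inv_mul, mul_one, hm, hm, ← map_mul, hu]
  have hL : Loc φ := by
    intro f a h
    have h0 : (i.c.app (op (X.basicOpen f))).hom ((X.presheaf.map (homOfLE (X.basicOpen_le f)).op).hom a) = 0 := by
      let V : Opens Z := (Opens.map i.base).obj (X.basicOpen f)
      have hVW : V ≤ W := fun z hz => X.basicOpen_le f hz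
      haveI : IsIso (j.c.app (op V)) := by
        change IsIso (Z.presheaf.map ((W.isOpenEmbedding.isOpenMap.adjunction).counit.app V).op)
        have e : W.isOpenEmbedding.isOpenMap.functor.obj ((Opens.map W.inclusion').obj V) = V := by
          ext z
          exact ⟨fun ⟨w, hw, hwz⟩ => hwz ▸ hw, fun hz => ⟨⟨z, hVW hz⟩, hz, rfl⟩⟩
        rw [show (W.isOpenEmbedding.isOpenMap.adjunction).counit.app V = eqToHom e from Subsingleton.elim _ _]
        infer_instance
      have key : ∀ (A A' : Opens (Z.restrict W.isOpenEmbedding)) (e : A = A') (h₁ : A ≤ ⊤) (h₂ : A' ≤ ⊤)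
          (t : (Z.restrict W.isOpenEmbedding).presheaf.obj (op ⊤)),
          ((Z.restrict W.isOpenEmbedding).presheaf.map (homOfLE h₁).op).hom t = 0 →
            ((Z.restrict W.isOpenEmbedding).presheaf.map (homOfLE h₂).op).hom t = 0 := by
        rintro A _ rfl h₁ h₂ t ht; exact ht
      have hb : (Z.restrict W.isOpenEmbedding).toRingedSpace.basicOpen (φ f) =
          (Opens.map i'.base).obj (X.basicOpen f) := by
        refine Eq.trans ?_ (LocallyRingedSpace.preimage_basicOpen i' (U := U) f).symm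
        refine ((Z.restrict W.isOpenEmbedding).toRingedSpace.basicOpen_res _ _).trans ?_
        exact inf_eq_right.2 fun z _ => trivial
      refine (ConcreteCategory.bijective_of_isIso (j.c.app (op V))).injective ?_
      refine Eq.trans ?_ (map_zero _).symm
      refine Eq.trans ?_ (key _ _ hb le_top le_top _ h)
      refine (ConcreteCategory.congr_hom (i'.c.naturality (homOfLE (X.basicOpen_le f)).op) a).trans ?_
      change _ = ((Z.restrict W.isOpenEmbedding).presheaf.map _).hom
        (((Z.restrict W.isOpenEmbedding).presheaf.map _).hom ((i'.c.app (op U)).hom a))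
      rw [← CommRingCat.comp_apply ((Z.restrict W.isOpenEmbedding).presheaf.map _), ← Functor.map_comp]
      rfl
    obtain ⟨N, hN⟩ := exists_pow_mul hi.2.2 hU f a h0
    refine ⟨N, ?_⟩
    change ((Z.restrict W.isOpenEmbedding).presheaf.map _).hom ((j.c.app (op W)).hom ((i.c.app (op U)).hom (f ^ N * a))) = 0
    rw [hN]
    exact (congrArg _ (map_zero _)).trans (map_zero _)
  obtain ⟨e, -⟩ := exists_iso_quotient φ (RingHom.ker φ.hom) rfl hL hemb hsur
  exact ⟨_, ⟨e⟩⟩

end Groth.Agent.LRSClosed
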